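import Cfsg.Agent.H885.Ell.Act
import Cfsg.Agent.H330.GowSt
import Cfsg.Agent.H274.TwTrace

/-!
# The Steinberg module and an elliptic automorphism (helper885, S4114)

* `exists_st_tw` : a group with a split (B,N)-pair of characteristic `r` and an automorphism `α` normalising no
  nontrivial `r`-subgroup: the Steinberg module with an intertwiner `A` for `α` of finite order, of trace `± 1`.
-/

set_option autoImplicit false
set_option linter.unusedSectionVars false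

namespace Cfsg.Agent.H885.Ell

open Cfsg Cfsg.Agent.Tits.Core Cfsg.Agent.Tits.Core.Bldg Cfsg.Agent.Tits.Exchange Cfsg.Agent.FixBN
  Cfsg.Agent.Tits Cfsg.Agent.H167.SteinbergMod

universe u

section Sys

variable {I : Type*} [Fintype I] [DecidableEq I] {M : CoxeterMatrix I} {W : Type*} [Group W] {cs : CoxeterSystem M W}
  {C : Type*} {Δ : Bldg cs C} {G : Type*} [Group G] [MulAction G C] {α : MulAut G}

/-- The inverse of an elliptic automorphism is elliptic. -/
theorem el_inv [Finite G] {p : ℕ} (hE : H520.EL p α) : H520.EL p α⁻¹ := by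
  intro R hR hi
  apply hE R hR
  -- `α⁻¹ R = R`
  have h1 : R.map ((α⁻¹ : MulAut G) : G ≃* G).toMonoidHom = R := by
    refine Subgroup.eq_of_le_of_card_ge ?_ ?_
    · rintro _ ⟨m, hm, rfl⟩
      exact hi m hm
    · exact (Nat.card_congr (R.equivMapOfInjective ((α⁻¹ : MulAut G) : G ≃* G).toMonoidHom
        ((α⁻¹ : MulAut G) : G ≃* G).injective).toEquiv).le
  intro m hm
  rw [← h1] at hm
  obtain ⟨m', hm', rfl⟩ := hm
  have h2 : α (((α⁻¹ : MulAut G) : G ≃* G).toMonoidHom m') = m' := MulAut.apply_inv_self G α m'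
  rw [h2]
  exact hm'

theorem Act.trace_op [Fintype C] [Finite W] [Finite G] {p : ℕ} [Fact p.Prime] (t : Act Δ G α) (S : Sys Δ G p)
    (hth : Δ.Thick) (ht : ∀ x y : C, ∃ g : G, g • x = y) (c : C) (hE : H520.EL p α) :
    LinearMap.trace ℂ (Harm Δ) (t.op : Harm Δ →ₗ[ℂ] Harm Δ) = 1 ∨
      LinearMap.trace ℂ (Harm Δ) (t.op : Harm Δ →ₗ[ℂ] Harm Δ) = -1 := by
  have : Nonempty C := ⟨c⟩
  refine H274.TwTrace.trace_pm_one Δ t.θ t.σ ?_ ?_ _ ?_
  · intro K x y
    rw [Finset.coe_image]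
    exact t.δ_mem_iff
  · intro K hK hK1 x
    refine t.ell S hth ht hE (K := (K : Set I)) ?_ ?_ x
    · rw [← Finset.coe_image, hK]
    · intro h
      apply hK1
      rw [← Finset.coe_inj, h, Finset.coe_univ]
  · intro f x
    rfl

/-- The Steinberg module of a building with an elliptic automorphism. -/
theorem exists_st_tw_sys [Fintype C] [Finite W] [Finite G] {p : ℕ} [Fact p.Prime] (t : Act Δ G α) (S : Sys Δ G p)
    (hth : Δ.Thick) (ht : ∀ x y : C, ∃ g : G, g • x = y) (c : C) {n : ℕ} (hn : ∀ x, t.θ^[n] x = x)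
    (hE : H520.EL p α) :
    (stRep Δ S.iso).IsIrreducible ∧ IsIrrCharacter G (stRep Δ S.iso).character ∧
      (stRep Δ S.iso).character 1 = ((p ^ (Nat.card G).factorization p : ℕ) : ℂ) ∧
      (∀ g : G, ¬ p ∣ orderOf g →
        (stRep Δ S.iso).character g =
          ((p ^ (Nat.card ↥(Subgroup.centralizer ({g} : Set G))).factorization p : ℕ) : ℂ) ∨
        (stRep Δ S.iso).character g =
          -((p ^ (Nat.card ↥(Subgroup.centralizer ({g} : Set G))).factorization p : ℕ) : ℂ)) ∧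
      (∀ (g : G) (v : Harm Δ), t.op (stRep Δ S.iso g v) = stRep Δ S.iso (α g) (t.op v)) ∧ t.op ^ n = 1 ∧
      (LinearMap.trace ℂ (Harm Δ) (t.op : Harm Δ →ₗ[ℂ] Harm Δ) = 1 ∨
        LinearMap.trace ℂ (Harm Δ) (t.op : Harm Δ →ₗ[ℂ] Harm Δ) = -1) ∧
      (LinearMap.trace ℂ (Harm Δ) ((t.op⁻¹ : Harm Δ ≃ₗ[ℂ] Harm Δ) : Harm Δ →ₗ[ℂ] Harm Δ) = 1 ∨
        LinearMap.trace ℂ (Harm Δ) ((t.op⁻¹ : Harm Δ ≃ₗ[ℂ] Harm Δ) : Harm Δ →ₗ[ℂ] Harm Δ) = -1) := by
  have F : OppRes.Cox cs := inferInstance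
  obtain ⟨a0, ha0⟩ := Tits.Opp.exists_opp Δ c
  have htr : ∀ x y x' y', Δ.δ x y = Δ.δ x' y' → ∃ g : G, g • x = x' ∧ g • y = y' := by
    intro x y x' y' h
    obtain ⟨g, rfl⟩ := ht x x'
    have h1 : Δ.δ (g • x) (g • y) = Δ.δ (g • x) y' := by rw [S.iso, h]
    obtain ⟨u, hu, huz⟩ := S.exists_move h1
    exact ⟨u * g, by rw [mul_smul, S.fix _ u hu], by rw [mul_smul, huz]⟩
  have hap : ∀ y, Δ.Opp c y → ∃ a : W → C, (∀ v w, Δ.δ (a v) (a w) = v⁻¹ * w) ∧ a 1 = c ∧ a (w0 cs) = y := by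
    intro y hy
    obtain ⟨σ, h1, h2⟩ := Tits.Chart.exists_chart hy 1
    rw [one_mul] at h2
    exact ⟨σ, σ.iso, h1, h2⟩
  have hirr0 := irreducible Δ S.iso c hap ⟨a0, ha0⟩ htr
  have hirr := Cfsg.Agent.Characters.Core.isIrrCharacter_of_rep _ hirr0
  have hdeg : (stRep Δ S.iso).character 1 = ((p ^ (Nat.card G).factorization p : ℕ) : ℂ) := by
    rw [character_eq Δ S.iso c hap (one_smul G c), ← H330.GowSt.card_U_eq S ht c]
    congr 1
    refine (Nat.card_congr (Equiv.ofBijective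
      (fun v : S.U c => (⟨(v : G) • a0, ?_, one_smul _ _⟩ : {y : C // Δ.Opp c y ∧ (1 : G) • y = y})) ⟨?_, ?_⟩)).symm
    · have h1 := S.iso (v : G) c a0
      rw [S.fix c v v.2] at h1
      exact h1.trans ha0
    · intro v w hvw
      have h1 : (v : G) • a0 = (w : G) • a0 := congrArg Subtype.val hvw
      have h2 : ((w : G)⁻¹ * v) • a0 = a0 := by rw [mul_smul, h1, inv_smul_smul]
      have h3 := S.free c a0 ha0 _ (mul_mem (inv_mem w.2) v.2) h2
      exact Subtype.ext (inv_mul_eq_one.1 h3).symm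
    · rintro ⟨e, he, -⟩
      obtain ⟨v, hv, rfl⟩ := S.trans c a0 e ha0 he
      exact ⟨⟨v, hv⟩, rfl⟩
  exact ⟨hirr0, hirr, hdeg, fun g hg => H330.GowSt.value S hth ht c hirr hdeg g hg, fun g v => t.op_rep S.iso g v,
    t.op_pow hn, t.trace_op S hth ht c hE, t.symm.trace_op S hth ht c (el_inv hE)⟩

end Sys

/-- **The Steinberg module and an elliptic automorphism.** -/
theorem exists_st_tw {K : Type u} [Group K] [Finite K] {r : ℕ} [Fact r.Prime] (hS : FixBN.HasSplit r K)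
    {α : MulAut K} (hE : H520.EL r α) :
    ∃ (V : Type u) (_ : AddCommGroup V) (_ : Module ℂ V) (_ : FiniteDimensional ℂ V)
      (ρ : Representation ℂ K V) (A : V ≃ₗ[ℂ] V) (n : ℕ),
      ρ.IsIrreducible ∧ IsIrrCharacter K ρ.character ∧
      ρ.character 1 = ((r ^ (Nat.card K).factorization r : ℕ) : ℂ) ∧
      (∀ g : K, ¬ r ∣ orderOf g →
        ρ.character g = ((r ^ (Nat.card ↥(Subgroup.centralizer ({g} : Set K))).factorization r : ℕ) : ℂ) ∨
        ρ.character g = -((r ^ (Nat.card ↥(Subgroup.centralizer ({g} : Set K))).factorization r : ℕ) : ℂ)) ∧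
      (∀ (g : K) (v : V), A (ρ g v) = ρ (α g) (A v)) ∧ 1 ≤ n ∧ A ^ n = 1 ∧
      (LinearMap.trace ℂ V (A : V →ₗ[ℂ] V) = 1 ∨ LinearMap.trace ℂ V (A : V →ₗ[ℂ] V) = -1) ∧
      (LinearMap.trace ℂ V ((A⁻¹ : V ≃ₗ[ℂ] V) : V →ₗ[ℂ] V) = 1 ∨
        LinearMap.trace ℂ V ((A⁻¹ : V ≃ₗ[ℂ] V) : V →ₗ[ℂ] V) = -1) := by
  classical
  obtain ⟨P, U, -, hU⟩ := hS
  have hN : ((P.B ⊓ P.N).subgroupOf P.N).Normal := Tits.OfBN.normal_subgroupOf P
  obtain ⟨M, cs, hcs⟩ := S0320.result P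
  have S := FixBN.OfBN.sys (Equiv.refl P.S) cs hcs hU
  have : Fintype (K ⧸ P.B) := Fintype.ofFinite _
  have : Finite P.S := inferInstance
  have : Fintype P.S := Fintype.ofFinite _
  obtain ⟨θ, φ, σ, h1, h2, h3, h4⟩ := H864.TrAct.exists_act hU (Equiv.refl P.S) cs hcs (α : K ≃* K)
  have hα : ∀ g, (α : K ≃* K)^[orderOf α] g = g := by
    intro g
    have h5 : ∀ n : ℕ, ∀ g, (α : K ≃* K)^[n] g = (α ^ n) g := by
      intro n
      induction n with
      | zero => exact fun g => rfl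
      | succ n ih =>
        intro g
        rw [Function.iterate_succ_apply', ih, pow_succ']
        rfl
    rw [h5, pow_orderOf_eq_one]
    rfl
  obtain ⟨h5, h6⟩ := h4 _ hα
  have hpos : 1 ≤ orderOf α := orderOf_pos α
  have hσ : Function.Bijective σ := by
    have hinj : Function.Injective σ := by
      intro i j hij
      rw [← h6 i, ← h6 j]
      obtain ⟨m, hm⟩ : ∃ m, orderOf α = m + 1 := ⟨orderOf α - 1, by omega⟩
      rw [hm, Function.iterate_succ_apply, Function.iterate_succ_apply, hij]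
    exact Finite.injective_iff_bijective.1 hinj
  let t : Act (Tits.OfBN.bldg P (Equiv.refl P.S) cs hcs) K α :=
    { θ := θ, φ := φ, σ := Equiv.ofBijective σ hσ, smul := h1, simple := h2, dist := h3 }
  have hmain := exists_st_tw_sys t S (Tits.OfBN.thick P (Equiv.refl P.S) cs hcs)
    (fun x y => MulAction.exists_smul_eq K x y) (QuotientGroup.mk 1) h5 hE
  obtain ⟨a1, a2, a3, a4, a5, a6, a7, a8⟩ := hmain
  exact ⟨_, inferInstance, inferInstance, inferInstance, _, t.op, orderOf α, a1, a2, a3, a4, a5, hpos, a6, a7, a8⟩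

end Cfsg.Agent.H885.Ell
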